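import Mathlib
import Cfsg.Prelude.Def_Spor_ON
import Cfsg.Agent.H93.CosetCox
import Cfsg.Agent.H93.CosetFast

/-!
A checked coset table (generated data).
-/

set_option autoImplicit false
set_option maxRecDepth 100000
set_option linter.all false
set_option Elab.async false

namespace H93
namespace ONHC

open Coset

noncomputable section

noncomputable def tT0 : ℕ := 0x14001200100017000d0016000b0015000c00080013000f001100050006000e00030009000a00010007000000040002

noncomputable def tT1 : ℕ := 0x1600170011000f000e000c0015000a00140013000700120005001000040003000d0002000b00090008000600000001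

noncomputable def tT2 : ℕ := 0x150013001700100016000d000e0014000900110012000600080004000f000b0002000c0001000a0000000700050003

noncomputable def tTsel (g : ℕ) : ℕ := bif Nat.beq g 0 then tT0 else bif Nat.beq g 1 then tT1 else tT2

noncomputable def tT (g c : ℕ) : ℕ := Nat.land (Nat.shiftRight (tTsel g) (16 * c)) 65535

noncomputable def tM0 : ℕ := 0x9000009000203000103020001000000

noncomputable def tM1 : ℕ := 0xd0d05000400050000040000000000000000000000000000

noncomputable def tM2 : ℕ := 0xc0b0c080b070a08000a0700060000060000000000000000

noncomputable def tMsel (g : ℕ) : ℕ := bif Nat.beq g 0 then tM0 else bif Nat.beq g 1 then tM1 else tM2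

noncomputable def tM (g c : ℕ) : ℕ := Nat.land (Nat.shiftRight (tMsel g) (8 * c)) 255

noncomputable def tJ0 : ℕ := 0x60108000000000000000000000000000000000307010108000000000108000000000000000000

noncomputable def tJ1 : ℕ := 0xc0206000000000000000000000000050206000000000000030206000000000000000000000000000000000000000000000000000000000000000000000000000000000000

noncomputable def tJ2 : ℕ := 0x1002090000000d020900000000000004020c00000008020902020c00000000000000000000000000020c000000000000000000000000000000000000000000000000

noncomputable def tJsel (g : ℕ) : ℕ := bif Nat.beq g 0 then tJ0 else bif Nat.beq g 1 then tJ1 else tJ2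

noncomputable def tJ (g c : ℕ) : ℕ := Nat.land (Nat.shiftRight (tJsel g) (24 * c)) 16777215

noncomputable def tPA0 : ℕ := 0x5000480040003c10340030102c002810242020001c1018201410102010100c100820081004200400002000000010000
noncomputable def tPA (c : ℕ) : ℕ := Nat.land (Nat.shiftRight tPA0 (16 * c)) 65535

def words : List (List ℕ) := [
  [0,0],
  [1,0,1,0,1,0],
  [2,0,2,0],
  [1,1],
  [2,1,2,1,2,1],
  [2,2]]

def data : Data := ⟨24, 3, tT, tM, tJ, tPA, words, 6, []⟩


end

end ONHC
end H93
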