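import Mathlib
import Cfsg.Agent.H93.ONHC.Data

/-!
A checked coset table (generated data).
-/

set_option autoImplicit false
set_option maxRecDepth 100000
set_option linter.all false
set_option Elab.async false

namespace H93
namespace ONHC

open Coset

noncomputable section

theorem edge0_0 : data.edgesFast 0 0 24 = true := by decide +kernel

theorem edge1_0 : data.edgesFast 1 0 24 = true := by decide +kernel

theorem edge2_0 : data.edgesFast 2 0 24 = true := by decide +kernel

theorem treeRow_0 : treeOK data 0 24 = true := by decide +kernel

end

end ONHC
end H93
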